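import Cfsg.Agent.H83.LieBN.Classical
import Cfsg.Agent.H83.LieBN.TwistBN
import Cfsg.Agent.H83.LieBN.SuzukiBN
import Cfsg.Agent.H37.Chev.All
import Cfsg.Agent.H37.Twist.E6
import Cfsg.Agent.H37.Twist.D4
import Cfsg.Agent.H37.Twist.F4
import Cfsg.Agent.H37.Twist.ReeCommon
import Cfsg.Agent.H38.Ree.Group
import Cfsg.Prelude.Def_LieTypeChar

/-!
Every group of Lie type in characteristic `p` carries a split Tits system in characteristic `p`.
-/

set_option autoImplicit false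
set_option linter.unusedSectionVars false
set_option linter.style.haveILetI false

namespace Cfsg.Agent.H83.LieBN

open Cfsg.Lie Cfsg.Agent.H37

theorem chev (D : ChevalleyDatum) (hD : D ∈ [chevG2, chevB2, chevD4, chevF4, chevE6, chevE7, chevE8])
    (F : Type) [Field F] [Finite F] (p : ℕ) [Fact p.Prime] [CharP F p] :
    Nonempty (SplitBN p ↥(D.group F)) := by
  obtain ⟨Q, -⟩ := H37.Chev.exists_data hD F
  exact ⟨chevBN Q p⟩

theorem twisted_e6 {K : Type} [Field K] [Fintype K] (p : ℕ) [Fact p.Prime] [CharP K p] {q : ℕ}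
    (hq : IsPrimePow q) (hK : Fintype.card K = q ^ 2) : Nonempty (SplitBN p ↥(twistedE6 K q)) := by
  obtain ⟨φ, hφ⟩ := H37.Twist.exists_powHom hq hK
  exact exists_twistBN _ p (H37.Twist.E6.model hφ hK)

theorem twisted_d4 {K : Type} [Field K] [Fintype K] (p : ℕ) [Fact p.Prime] [CharP K p] {q : ℕ}
    (hq : IsPrimePow q) (hK : Fintype.card K = q ^ 3) : Nonempty (SplitBN p ↥(twistedD4 K q)) := by
  obtain ⟨φ, hφ⟩ := H37.Twist.exists_powHom hq hK
  exact exists_twistBN _ p (H37.Twist.D4.model hφ hK)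

theorem two_f4 {K : Type} [Field K] [Fintype K] {m : ℕ} (hK : Fintype.card K = 2 ^ (2 * m + 1)) :
    Nonempty (SplitBN 2 ↥(twistedF4 K (2 ^ m))) := by
  haveI := Fact.mk Nat.prime_two
  haveI : CharP K 2 := H37.Twist.charP_of_card Nat.prime_two hK
  obtain ⟨φ, hφ⟩ := H37.Twist.exists_iterHom K 2 m Nat.prime_two
  exact exists_twistBN _ 2 (H37.Twist.F4.model hφ hK)

theorem ree {K : Type} [Field K] [Fintype K] {m : ℕ} (hK : Fintype.card K = 3 ^ (2 * m + 1)) :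
    Nonempty (SplitBN 3 ↥(twistedG2 K (3 ^ m))) := by
  haveI := Fact.mk Nat.prime_three
  haveI : CharP K 3 := H37.Twist.charP_of_card Nat.prime_three hK
  obtain ⟨P, he⟩ := H38.Ree.exists_par hK
  rw [← he]
  exact exists_twistBN _ 3 P.model

theorem suzuki {K : Type} [Field K] [Fintype K] {m : ℕ} (hm : 1 ≤ m)
    (hK : Fintype.card K = 2 ^ (2 * m + 1)) : Nonempty (SplitBN 2 ↥(Cfsg.Lie.Sz K (2 ^ (m + 1)))) := by
  haveI : Suzuki.SzField K m := ⟨hK, hm⟩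
  obtain ⟨L⟩ := exists_szBN (F := K) m
  exact ⟨L.map (Suzuki.lieEquiv m)⟩

theorem prime_of_isLieTypeChar {G : Type*} [Group G] {p : ℕ} (hG : Cfsg.IsLieTypeChar p G) :
    p.Prime := by
  have key : ∀ (F : Type) [Field F] [Fintype F], CharP F p → p.Prime := fun F _ _ h => by
    haveI := h; exact CharP.char_is_prime F p
  rcases hG with ⟨F, iF, iT, iC, -⟩ | ⟨F, iF, iT, iC, -⟩ | ⟨F, iF, iT, iC, -⟩ | ⟨F, iF, iT, iC, -⟩ |
    ⟨F, iF, iT, iC, -⟩ | ⟨F, iF, iT, iC, -⟩ | ⟨F, iF, iT, iC, -⟩ | ⟨F, iF, iT, iC, -⟩ |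
    ⟨rfl, -⟩ | ⟨rfl, -⟩ | ⟨rfl, -⟩
  all_goals first | exact key F iC | exact Nat.prime_two | exact Nat.prime_three

/-- Every group of Lie type in characteristic `p` carries a split Tits system in characteristic `p`. -/
theorem exists_lieBN {G : Type*} [Group G] {p : ℕ} (hG : Cfsg.IsLieTypeChar p G) :
    Nonempty (SplitBN p G) := by
  haveI := Fact.mk (prime_of_isLieTypeChar hG)
  have done : ∀ {H : Type} [Group H], (G ≃* H) → Nonempty (SplitBN p H) → Nonempty (SplitBN p G) := by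
    intro H _ e ⟨L⟩
    exact ⟨L.map e.symm⟩
  rcases hG with ⟨F, iF, iT, iC, n, -, -, ⟨e⟩⟩ | ⟨F, iF, iT, iC, m, -, -, ⟨e⟩⟩ |
    ⟨F, iF, iT, iC, n, q, hF, -, -, ⟨e⟩⟩ | ⟨F, iF, iT, iC, m, -, hodd, ⟨e⟩⟩ |
    ⟨F, iF, iT, iC, m, hm, ⟨e⟩⟩ | ⟨F, iF, iT, iC, m, a, b, hm, hab, ⟨e⟩⟩ |
    ⟨F, iF, iT, iC, ⟨-, ⟨e⟩⟩ | e | e | e | e⟩ |
    ⟨K, iF, iT, iC, q, hq, ⟨hK, ⟨e⟩⟩ | ⟨hK, ⟨e⟩⟩⟩ |
    ⟨rfl, F, iF, iT, m, hm, hF, ⟨e⟩⟩ | ⟨rfl, K, iF, iT, m, -, hK, ⟨e⟩⟩ |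
    ⟨rfl, K, iF, iT, m, -, hK, ⟨e⟩⟩
  · exact done e (psl n F p)
  · exact done e (psp m F p)
  · exact done e (psu n q F hF p)
  · exact done e (omega_odd m F p hodd)
  · obtain ⟨k, rfl⟩ : ∃ k, m = k + 1 := ⟨m - 1, by omega⟩
    exact done e (omega_plus k F p (Or.inr (Or.inr (by omega))))
  · exact done e (omega_minus p (m - 1) a b hab)
  · exact done e (chev _ (by simp) F p)
  · obtain ⟨e⟩ := e; exact done e (chev _ (by simp) F p)
  · obtain ⟨e⟩ := e; exact done e (chev _ (by simp) F p)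
  · obtain ⟨e⟩ := e; exact done e (chev _ (by simp) F p)
  · obtain ⟨e⟩ := e; exact done e (chev _ (by simp) F p)
  · exact done e (twisted_e6 p hq hK)
  · exact done e (twisted_d4 p hq hK)
  · exact done e (suzuki hm hF)
  · exact done e (two_f4 hK)
  · exact done e (ree hK)

end Cfsg.Agent.H83.LieBN
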