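import Cfsg.Agent.H83.LieBN.ClassicalBN

/-!
The split Tits systems of the simple classical groups.
-/

set_option autoImplicit false
set_option linter.unusedSectionVars false

namespace Cfsg.Agent.H83.LieBN

open Matrix Cfsg.Agent.Linear Cfsg.Agent.H37 Cfsg.Agent.H52 Cfsg.Agent.H54 Cfsg.Agent.H52.TwistedBruhat Cfsg.Agent.Orthogonal
open scoped MatrixGroups

section Linear'

open Cfsg.Agent.H83.Classical

theorem det_unitri {n : ℕ} {F : Type} [Field F] {g : GL (Fin n) F} (hg : g ∈ unitriGL n F) :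
    GeneralLinearGroup.det g = 1 := Units.ext (by
  show Matrix.det ((g : GL (Fin n) F) : Matrix (Fin n) (Fin n) F) = 1
  rw [blockTriangular_det (mem_unitri.1 hg).1]
  exact Finset.prod_eq_one fun i _ => (mem_unitri.1 hg).2 i)

theorem psl (n : ℕ) (F : Type) [Field F] [Finite F] (p : ℕ) [Fact p.Prime] [CharP F p] :
    Nonempty (SplitBN p (Matrix.ProjectiveSpecialLinearGroup (Fin n) F)) := by
  obtain ⟨L, hL⟩ := exists_gl n F p
  have hinj : Function.Injective (SpecialLinearGroup.toGL : SpecialLinearGroup (Fin n) F →* GL (Fin n) F) :=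
    fun a b e => Subtype.ext (congrArg Units.val e :)
  have hr : (SpecialLinearGroup.toGL : SpecialLinearGroup (Fin n) F →* GL (Fin n) F).range =
      (GeneralLinearGroup.det : GL (Fin n) F →* Fˣ).ker := by
    ext g
    constructor
    · rintro ⟨a, rfl⟩
      exact MonoidHom.mem_ker.2 (Units.ext a.2)
    · intro hg
      exact ⟨⟨g.1, congrArg Units.val (MonoidHom.mem_ker.1 hg)⟩, Units.ext rfl⟩
  exact ⟨L.ofNormalCenterQuot (GeneralLinearGroup.det : GL (Fin n) F →* Fˣ).ker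
    (hL.trans_le fun g hg => MonoidHom.mem_ker.2 (det_unitri hg))
    (centerQuot ((MonoidHom.ofInjective hinj).trans (MulEquiv.subgroupCongr hr)))⟩

end Linear'

section Symp'

open Cfsg.Agent.H83.Classical Cfsg.Agent.H83.Classical.Symp

theorem psp (m : ℕ) (F : Type) [Field F] [Finite F] (p : ℕ) [Fact p.Prime] [CharP F p] :
    Nonempty (SplitBN p (Cfsg.PSp m F)) := by
  obtain ⟨L, hL⟩ := exists_tw (data m F) p
  exact ⟨L.ofNormalCenterQuot ⊤ le_top
    (centerQuot (((MonoidHom.ofInjective (toGrp_injective m F)).trans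
      (MulEquiv.subgroupCongr (range_toGrp m F))).trans Subgroup.topEquiv.symm))⟩

end Symp'

section Unit'

open Cfsg.Agent.H83.Classical Cfsg.Agent.H83.Classical.Unit

theorem psu (n q : ℕ) (F : Type) [Field F] [Fintype F] (hF : Fintype.card F = q ^ 2) (p : ℕ) [Fact p.Prime] [CharP F p] :
    Nonempty (SplitBN p (Cfsg.PSU n F q)) := by
  obtain ⟨Q, hQ⟩ := exists_frame hF n
  set T := data n hF
  let N : Subgroup ↥T.Grp := (GeneralLinearGroup.det.comp T.Grp.subtype).ker
  have hN : (unitriGL n F).subgroupOf T.Grp ≤ N := fun g hg => MonoidHom.mem_ker.2 (Units.ext (by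
    show Matrix.det ((g : GL (Fin n) F) : Matrix (Fin n) (Fin n) F) = 1
    have hg' : (g : GL (Fin n) F) ∈ unitriGL n F := hg
    rw [blockTriangular_det (mem_unitri.1 hg').1]
    exact Finset.prod_eq_one fun i _ => (mem_unitri.1 hg').2 i))
  have hrange : (UnitaryTwoPSU.toG n F q Q).range = N.map T.Grp.subtype := by
    rw [UnitaryTwoPSU.range_toG hF hQ]
    ext g
    rw [UnitaryTwo.mem_G, Subgroup.mem_map]
    constructor
    · rintro ⟨h1, h2⟩
      exact ⟨⟨g, show T.Θ g = g by rw [data_Θ]; exact h1⟩, h2, rfl⟩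
    · rintro ⟨⟨x, hx⟩, hxN, rfl⟩
      refine ⟨?_, hxN⟩
      show theta _ x = x
      rw [← data_Θ hF]
      exact hx
  obtain ⟨L, hL⟩ := exists_tw T p
  exact ⟨L.ofNormalCenterQuot N (hL.trans_le hN) (centerQuot
    (((MonoidHom.ofInjective (UnitaryTwoPSU.toG_injective (q := q) Q)).trans
      (MulEquiv.subgroupCongr hrange)).trans
      (N.equivMapOfInjective _ T.Grp.subtype_injective).symm))⟩

end Unit'

section Orth'

open Cfsg.Agent.H83.Classical Cfsg.Agent.H83.Classical.Orth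

theorem omega_odd (m : ℕ) (F : Type) [Field F] [Fintype F] (p : ℕ) [hp : Fact p.Prime] [CharP F p]
    (hodd : Odd (Fintype.card F)) : Nonempty (SplitBN p (Cfsg.POmega F (Cfsg.quadFormOdd m F))) := by
  obtain ⟨f, -, hf⟩ := FiniteField.card F p
  have hp2 : Odd p := by
    rw [hf] at hodd
    exact (Nat.odd_pow_iff f.ne_zero).1 hodd
  have h2 : (2 : F) ≠ 0 := fun h => by
    have : p ∣ 2 := (CharP.cast_eq_zero_iff F p 2).1 (by exact_mod_cast h)
    have := (Nat.prime_dvd_prime_iff_eq hp.out Nat.prime_two).1 this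
    subst this
    exact absurd hp2 (by decide)
  set T := data m h2
  let φ := (MonoidHom.ofInjective (toGrp_injective m (F := F))).trans
    (MulEquiv.subgroupCongr (range_toGrp m h2))
  set Ω := Cfsg.Omega F (Cfsg.quadFormOdd m F)
  let N : Subgroup ↥T.Grp := Ω.map φ.toMonoidHom
  haveI : N.Normal := Subgroup.Normal.map inferInstance _ φ.surjective
  obtain ⟨L, hL⟩ := exists_tw T p
  refine ⟨L.ofNormalCenterQuot N (hL.trans_le ?_)
    (centerQuot (Ω.equivMapOfInjective φ.toMonoidHom φ.injective))⟩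
  intro g hg
  have hg' : (g : GL (Fin (m + m + 1)) F) ∈ unitriGL (m + m + 1) F := hg
  obtain ⟨k, hk⟩ := IsPGroup.iff_orderOf.mp (isPGroup_unitriGL (n := m + m + 1) (F := F) p) ⟨_, hg'⟩
  rw [Subgroup.orderOf_mk] at hk
  rw [Subgroup.orderOf_coe] at hk
  set h := φ.symm g with hh
  have ho : orderOf h = p ^ k := by
    rw [hh, MulEquiv.orderOf_eq, hk]
  obtain ⟨j, hj⟩ := hp2.pow (n := k)
  refine ⟨h, ?_, φ.apply_symm_apply g⟩
  have hsq : h = h ^ (j + 1) * h ^ (j + 1) := by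
    rw [← pow_add, show j + 1 + (j + 1) = p ^ k + 1 by omega, pow_succ, ← ho, pow_orderOf_eq_one,
      one_mul]
  rw [hsq]
  exact sq_mem_omega m h2 _

end Orth'

section Plus'

open Cfsg.Agent.H83.Classical Cfsg.Agent.H83.Classical.OPlus

theorem omega_plus (m : ℕ) (F : Type) [Field F] [Fintype F] (p : ℕ) [hp : Fact p.Prime] [CharP F p]
    (hgood : (2 : F) ≠ 0 ∨ Nat.card F ≠ 2 ∨ m ≠ 1) :
    Nonempty (SplitBN p (Cfsg.POmega F (Cfsg.quadFormPlus (m + 1) F))) := by
  set Ω := Cfsg.Omega F (Cfsg.quadFormPlus (m + 1) F) with hΩ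
  set Ω' := Ω.map (isoO m F) with hΩ'
  let N : Subgroup ↥(GPlus m F) := Ω'.subgroupOf (GPlus m F)
  haveI : N.Normal := ⟨fun x hx g => by
    obtain ⟨a, ha, e⟩ := hx
    obtain ⟨b, hb⟩ : (g : GL (Fin (dim m)) F) ∈ (isoO m F).range := by
      rw [range_isoO]; exact GPlus_le_OGrp g.2
    refine ⟨b * a * b⁻¹, (inferInstance : Ω.Normal).conj_mem a ha b, ?_⟩
    rw [map_mul, map_mul, map_inv, hb, e]
    rfl⟩
  have hU : UPlus m F ≤ Ω' := by
    by_cases h2 : (2 : F) = 0
    · exact UPlus_le_omega_two h2 (hgood.resolve_left (not_not.2 h2))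
    · exact UPlus_le_omega_odd p h2
  obtain ⟨L, hL⟩ := exists_plus m F p
  exact ⟨L.ofNormalCenterQuot N (hL.trans_le fun u hu => hU hu)
    (centerQuot ((Ω.equivMapOfInjective (isoO m F) isoO_injective).trans
      (Subgroup.subgroupOfEquivOfLe omega_le_GPlus).symm))⟩

end Plus'

section Minus'

open Cfsg.Agent.H83.Classical Cfsg.Agent.H83.Classical.OPlus Cfsg.Agent.H83.Classical.OMinus NormalForm

theorem omega_minus_of_ext {m : ℕ} {F K : Type} [Field F] [Finite F] [Field K] [Finite K] {a b : F}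
    (E : QuadExt F K a b) (p : ℕ) [hp : Fact p.Prime] [CharP F p]
    (hab : ∀ z₁ z₂ : F, z₁ ^ 2 + a * z₁ * z₂ + b * z₂ ^ 2 = 0 → z₁ = 0 ∧ z₂ = 0) :
    Nonempty (SplitBN p (Cfsg.POmega F (Cfsg.quadFormMinus m F a b))) := by
  haveI : CharP K p := charP_of_injective_ringHom E.ι.injective p
  set Ω := Cfsg.Omega F (Cfsg.quadFormMinus m F a b)
  let f : ↥(fixedPts (psiP m E.σσ)) →* GL (Fin (dim m)) K :=
    (GPlus m K).subtype.comp (fixedPts (psiP m E.σσ)).subtype
  have hf : Function.Injective f := (GPlus m K).subtype_injective.comp (fixedPts (psiP m E.σσ)).subtype_injective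
  have hrange : Ω.map (embO m E) ≤ f.range := by
    rintro _ ⟨g, hg, rfl⟩
    exact ⟨⟨⟨embO m E g, omega_le_GMinus E hg⟩, Subtype.ext (psi_embGL E g.1)⟩, rfl⟩
  let N : Subgroup ↥(fixedPts (psiP m E.σσ)) := (Ω.map (embO m E)).comap f
  have hmem : ∀ g : ↥(fixedPts (psiP m E.σσ)), f g ∈ (embO m E).range := fun g =>
    mem_range_embO E (GPlus_le_OGrp g.1.2) (congrArg Subtype.val (g.2 : psiP m E.σσ g.1 = g.1))
  haveI : N.Normal := ⟨fun x hx g => by
    obtain ⟨x', hx', e⟩ := hx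
    obtain ⟨g', hg'⟩ := hmem g
    refine ⟨g' * x' * g'⁻¹, (inferInstance : Ω.Normal).conj_mem x' hx' g', ?_⟩
    rw [map_mul, map_mul, map_inv, hg', e, map_mul, map_mul, map_inv]⟩
  have hU : ∀ g : ↥(fixedPts (psiP m E.σσ)), ((g : ↥(GPlus m K)) : GL (Fin (dim m)) K) ∈ UPlus m K → g ∈ N := by
    intro g hg
    obtain ⟨g', hg'⟩ := hmem g
    exact ⟨g', unitri_le_omega E p hab (by rw [hg']; exact hg), hg'⟩
  have e1 : ↥N ≃* ↥(Ω.map (embO m E)) :=
    (Subgroup.equivMapOfInjective N f hf).trans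
      (MulEquiv.subgroupCongr (Subgroup.map_comap_eq_self hrange))
  obtain ⟨L, hL⟩ := exists_minus m p E.σσ
  exact ⟨L.ofNormalCenterQuot N (hL.trans_le fun g hg => hU g ((mem_U_iff E.σσ).1 hg))
    (centerQuot ((Ω.equivMapOfInjective (embO m E) (embO_injective E)).trans e1.symm))⟩

theorem omega_minus {F : Type} [Field F] [Fintype F] (p : ℕ) [Fact p.Prime] [CharP F p] (m : ℕ) (a b : F)
    (hab : ∀ z₁ z₂ : F, z₁ ^ 2 + a * z₁ * z₂ + b * z₂ ^ 2 = 0 → z₁ = 0 ∧ z₂ = 0) :
    Nonempty (SplitBN p (Cfsg.POmega F (Cfsg.quadFormMinus m F a b))) := by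
  obtain ⟨K, _, ⟨E⟩⟩ := exists_quadExt hab
  haveI : Finite K := Finite.of_surjective (fun cd : F × F => E.ι cd.1 + E.ω * E.ι cd.2) fun x => by
    obtain ⟨c, d, e⟩ := E.span x
    exact ⟨(c, d), e.symm⟩
  exact omega_minus_of_ext (m := m) E p hab

end Minus'

end Cfsg.Agent.H83.LieBN
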