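import Cfsg.Agent.H83.LieBN.Core
import Cfsg.Agent.H83.Classical.Symplectic
import Cfsg.Agent.H83.Classical.Unitary
import Cfsg.Agent.H83.Classical.Orthogonal
import Cfsg.Agent.H83.Classical.OPlusGroup
import Cfsg.Agent.H83.Classical.OMinusGroup

/-!
The split Tits systems of the general linear group, of the fixed groups and of the even orthogonal groups.
-/

set_option autoImplicit false
set_option linter.unusedSectionVars false

namespace Cfsg.Agent.H83.LieBN

open Matrix Equiv Cfsg.Agent.H37 Cfsg.Agent.Linear Cfsg.Agent.H54 Cfsg.Agent.H52.TwistedBruhat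
open scoped MatrixGroups

/-- Package of a system with its numerical conditions. -/
theorem nonempty_mk {p : ℕ} {G : Type*} [Group G] {W : Type} [Group W] [Finite W] (A : Tits.Ambient G W) (w₀ : W)
    (h1 : A.Uw w₀ = A.U) (h2 : ∀ s ∈ A.S, Nat.card (A.Uw (w₀ * s)) < Nat.card A.U)
    (h3 : IsPGroup p ↥A.U) (h4 : ¬ p ∣ Nat.card ↥A.H) (h5 : ∀ w, w ≠ 1 → A.Uw w ≠ ⊥) :
    ∃ L : SplitBN p G, L.A.U = A.U :=
  ⟨{ W := W, A := A, w₀ := w₀, full := h1, lt := h2, ne_bot := h5, pgroup := h3, coprime := h4 }, rfl⟩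

section GLn

open Cfsg.Agent.H83.Classical

variable (n : ℕ) (F : Type) [Field F] [Finite F] (p : ℕ) [Fact p.Prime] [CharP F p]

theorem exists_gl : ∃ L : SplitBN p (GL (Fin n) F), L.A.U = unitriGL n F := by
  cases nonempty_fintype F
  refine nonempty_mk (glAmb (fun _ _ => 1) rfl) Fin.revPerm ?_ ?_ ?_ ?_ ?_
  · exact TwData.outPart_rev
  · intro s hs
    obtain ⟨⟨v, hv⟩, hv1⟩ :=
      Subgroup.ne_bot_iff_exists_ne_one.1 ((glAmb (n := n) (F := F) (fun _ _ => 1) rfl).Uw_S_ne s hs)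
    refine (Subgroup.card_le_of_le ((glAmb (n := n) (F := F) (fun _ _ => 1) rfl).Uw_le _)).lt_of_ne fun e => ?_
    have heq := Subgroup.eq_of_le_of_card_ge ((glAmb (n := n) (F := F) (fun _ _ => 1) rfl).Uw_le _) e.ge
    have hvU := (glAmb (n := n) (F := F) (fun _ _ => 1) rfl).Uw_le s hv
    rw [← heq] at hvU
    have h2 : v ∈ outPart (F := F) (Fin.revPerm * s)⁻¹ := hvU
    rw [_root_.mul_inv_rev, show (Fin.revPerm : Equiv.Perm (Fin n))⁻¹ = Fin.revPerm from
      Equiv.Perm.inv_def _] at h2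
    exact hv1 (Subtype.ext (TwData.outPart_inf_rev _ hv h2))
  · exact isPGroup_unitriGL p
  · exact TwData.not_dvd_card_torus p
  · intro w hw hbot
    obtain ⟨i, j, hij, hd⟩ := TwData.exists_descent hw
    have hlt : i < j := Fin.lt_def.2 (by omega)
    have : xGL hlt.ne (1 : F) ∈ (⊥ : Subgroup (GL (Fin n) F)) :=
      hbot ▸ xGL_mem_outPart hlt 1 (by simpa using hd)
    exact xGL_ne_one hlt.ne one_ne_zero (Subgroup.mem_bot.1 this)

end GLn

section Tw

open Cfsg.Agent.H83.Classical Cfsg.Agent.H83.Classical.TwData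

variable {n : ℕ} {F : Type} [Field F] [Finite F] (T : TwData n F) (p : ℕ) [Fact p.Prime] [CharP F p]

theorem exists_tw : ∃ L : SplitBN p ↥T.Grp, L.A.U = (unitriGL n F).subgroupOf T.Grp := by
  cases nonempty_fintype F
  refine nonempty_mk T.system ⟨Fin.revPerm, rev_mem_symPerm⟩ ?_ ?_ ?_ ?_ ?_
  · rw [system_Uw, system_U, outPart_rev]
  · intro s hs
    obtain ⟨v, hv, hvf, hv1⟩ := T.exists_fixed_out s.2 (SGen.ne_one hs)
    have hvU : (⟨v, hvf⟩ : ↥T.Grp) ∈ T.system.U := (mem_outPart.1 hv).1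
    refine (Subgroup.card_le_of_le (T.system.Uw_le _)).lt_of_ne fun e => ?_
    have heq := Subgroup.eq_of_le_of_card_ge (T.system.Uw_le _) e.ge
    rw [← heq] at hvU
    have h2 : v ∈ outPart (F := F) (Fin.revPerm * (s : Equiv.Perm (Fin n)))⁻¹ := hvU
    rw [_root_.mul_inv_rev, show (Fin.revPerm : Equiv.Perm (Fin n))⁻¹ = Fin.revPerm from
      Equiv.Perm.inv_def _] at h2
    exact hv1 (outPart_inf_rev _ hv h2)
  · exact ((isPGroup_unitriGL (n := n) (F := F) p).comap_subtype)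
  · intro h
    refine not_dvd_card_torus (n := n) (F := F) p (h.trans ?_)
    rw [← Subgroup.card_map_of_injective (f := T.Grp.subtype) T.Grp.subtype_injective]
    exact Subgroup.card_dvd_of_le (Subgroup.map_le_iff_le_comap.2 le_rfl)
  · intro w hw
    obtain ⟨v, hv, hvf, hv1⟩ := T.exists_fixed_out w.2 (fun e => hw (Subtype.ext e))
    intro hbot
    have : (⟨v, hvf⟩ : ↥T.Grp) ∈ (⊥ : Subgroup ↥T.Grp) := hbot ▸ (hv : v ∈ outPart _)
    exact hv1 (congrArg Subtype.val (Subgroup.mem_bot.1 this))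

end Tw

section Plus

open Cfsg.Agent.H83.Classical Cfsg.Agent.H83.Classical.OPlus

variable (m : ℕ) (F : Type) [Field F] [Finite F] (p : ℕ) [Fact p.Prime] [CharP F p]

theorem exists_plus : ∃ L : SplitBN p ↥(GPlus m F), L.A.U = (UPlus m F).subgroupOf (GPlus m F) := by
  cases nonempty_fintype F
  have hex : ∃ w₀ : ↥(WPlus m), w₀.1 = Fin.revPerm ∨ w₀.1 = Fin.revPerm * mid m := by
    rcases sym_cases (TwData.rev_mem_symPerm : Fin.revPerm ∈ TwData.symPerm (dim m)) with h | h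
    exacts [⟨⟨_, h⟩, Or.inl rfl⟩, ⟨⟨_, h⟩, Or.inr rfl⟩]
  obtain ⟨w₀, hw₀⟩ := hex
  have hfull : (plusAmb m F).Uw w₀ = (plusAmb m F).U :=
    le_antisymm ((plusAmb m F).Uw_le _) fun u hu => ⟨outPart_full hw₀ hu, hu.2⟩
  refine nonempty_mk (plusAmb m F) w₀ hfull ?_ ?_ ?_ ?_
  · intro s hs
    obtain ⟨⟨v, hv⟩, hv1⟩ := Subgroup.ne_bot_iff_exists_ne_one.1 ((plusAmb m F).Uw_S_ne s hs)
    have hv1' : v ≠ 1 := fun e => hv1 (Subtype.ext e)
    have hvU := (plusAmb m F).Uw_le s hv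
    refine (Subgroup.card_le_of_le ((plusAmb m F).Uw_le _)).lt_of_ne fun e => ?_
    have heq := Subgroup.eq_of_le_of_card_ge ((plusAmb m F).Uw_le _) e.ge
    rw [← heq] at hvU
    have h1 : (v : GL (Fin (dim m)) F) ∈ outPart (F := F) (s.1)⁻¹ := hv.1
    have h2 : (v : GL (Fin (dim m)) F) ∈ outPart (F := F) (w₀.1 * s.1)⁻¹ := hvU.1
    rw [_root_.mul_inv_rev, SPlus_inv hs] at h2
    rw [SPlus_inv hs] at h1
    refine hv1' (Subtype.ext ?_)
    rcases hw₀ with h | h <;> rw [h] at h2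
    · rw [show (Fin.revPerm : Equiv.Perm (Fin (dim m)))⁻¹ = Fin.revPerm from Equiv.Perm.inv_def _] at h2
      exact TwData.outPart_inf_rev _ h1 h2
    · rw [_root_.mul_inv_rev, mid_inv,
        show (Fin.revPerm : Equiv.Perm (Fin (dim m)))⁻¹ = Fin.revPerm from Equiv.Perm.inv_def _] at h2
      exact outPart_inf_mid_rev _ (WPlus_le_sym s.2) hv.2 h1 h2
  · have h1 : IsPGroup p ↥(UPlus m F) := (isPGroup_unitriGL (n := dim m) (F := F) p).to_le inf_le_left
    exact h1.comap_subtype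
  · intro h
    refine TwData.not_dvd_card_torus (n := dim m) (F := F) p (h.trans ?_)
    rw [← Subgroup.card_map_of_injective (f := (GPlus m F).subtype) (GPlus m F).subtype_injective]
    exact Subgroup.card_dvd_of_le ((Subgroup.map_le_iff_le_comap.2 le_rfl).trans inf_le_left)
  · intro w hw
    obtain ⟨i, j, hij, hj, hd⟩ := exists_root w.2 (fun e => hw (Subtype.ext e))
    obtain ⟨v, hv, hvw, hv1⟩ := exists_plus_out (F := F) (WPlus_le_sym w.2) hij hj hd
    intro hbot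
    have : (⟨v, UPlus_le hv⟩ : ↥(GPlus m F)) ∈ (⊥ : Subgroup ↥(GPlus m F)) := hbot ▸ ⟨hvw, hv.2⟩
    exact hv1 (congrArg Subtype.val (Subgroup.mem_bot.1 this))

end Plus

section Minus

open Cfsg.Agent.H83.Classical Cfsg.Agent.H83.Classical.OPlus Cfsg.Agent.H83.Classical.OMinus NormalForm

variable (m : ℕ) {K : Type} [Field K] [Finite K] {σ : K →+* K} (p : ℕ) [Fact p.Prime] [CharP K p]

theorem exists_minus (hσ : ∀ x, σ (σ x) = x) : ∃ L : SplitBN p ↥(fixedPts (psiP m hσ)),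
    L.A.U = (minusAmb m hσ).U := by
  cases nonempty_fintype K
  have hex : ∃ w₀ : ↥(WMinus m), w₀.1.1 = Fin.revPerm ∨ w₀.1.1 = Fin.revPerm * mid m := by
    rcases sym_cases (TwData.rev_mem_symPerm : Fin.revPerm ∈ TwData.symPerm (dim m)) with h | h
    · refine ⟨⟨⟨_, h⟩, ?_⟩, Or.inl rfl⟩
      show mid m * Fin.revPerm * mid m = Fin.revPerm
      rw [← rev_mid_comm, mul_assoc, mid_sq, mul_one]
    · refine ⟨⟨⟨_, h⟩, ?_⟩, Or.inr rfl⟩
      show mid m * (Fin.revPerm * mid m) * mid m = Fin.revPerm * mid m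
      rw [mul_assoc, mul_assoc Fin.revPerm, mid_sq, mul_one, rev_mid_comm]
  obtain ⟨w₀, hw₀⟩ := hex
  have hfull : (minusAmb m hσ).Uw w₀ = (minusAmb m hσ).U :=
    le_antisymm ((minusAmb m hσ).Uw_le _) fun u hu =>
      (mem_Uw_iff hσ).2 ⟨outPart_full hw₀ ((mem_U_iff hσ).1 hu), ((mem_U_iff hσ).1 hu).2⟩
  refine nonempty_mk (minusAmb m hσ) w₀ hfull ?_ ?_ ?_ ?_
  · intro s hs
    obtain ⟨⟨v, hv⟩, hv1⟩ := Subgroup.ne_bot_iff_exists_ne_one.1 ((minusAmb m hσ).Uw_S_ne s hs)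
    have hv1' : v ≠ 1 := fun e => hv1 (Subtype.ext e)
    have hvU := (minusAmb m hσ).Uw_le s hv
    refine (Subgroup.card_le_of_le ((minusAmb m hσ).Uw_le _)).lt_of_ne fun e => ?_
    have heq := Subgroup.eq_of_le_of_card_ge ((minusAmb m hσ).Uw_le _) e.ge
    rw [← heq] at hvU
    have h1 : (v.1.1 : GL (Fin (dim m)) K) ∈ outPart (F := K) (s.1.1)⁻¹ := ((mem_Uw_iff hσ).1 hv).1
    have h2 : (v.1.1 : GL (Fin (dim m)) K) ∈ outPart (F := K) (w₀.1.1 * s.1.1)⁻¹ := ((mem_Uw_iff hσ).1 hvU).1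
    have hsinv : s.1.1⁻¹ = s.1.1 := inv_eq_of_mul_eq_one_right (IsGen.mem (show IsGen s.1.1 from hs)).2.2
    rw [_root_.mul_inv_rev, hsinv] at h2
    rw [hsinv] at h1
    refine hv1' (Subtype.ext (Subtype.ext ?_))
    rcases hw₀ with h | h <;> rw [h] at h2
    · rw [show (Fin.revPerm : Equiv.Perm (Fin (dim m)))⁻¹ = Fin.revPerm from Equiv.Perm.inv_def _] at h2
      exact TwData.outPart_inf_rev _ h1 h2
    · rw [_root_.mul_inv_rev, mid_inv,
        show (Fin.revPerm : Equiv.Perm (Fin (dim m)))⁻¹ = Fin.revPerm from Equiv.Perm.inv_def _] at h2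
      exact outPart_inf_mid_rev _ (WPlus_le_sym s.1.2) ((mem_Uw_iff hσ).1 hv).2 h1 h2
  · have h1 : IsPGroup p ↥(UPlus m K) := (isPGroup_unitriGL (n := dim m) (F := K) p).to_le inf_le_left
    have h2 := (h1.comap_subtype (H := UPlus m K) (K := GPlus m K)).comap_subtype (K := fixedPts (psiP m hσ))
    exact h2
  · intro h
    refine TwData.not_dvd_card_torus (n := dim m) (F := K) p (h.trans ?_)
    rw [← Subgroup.card_map_of_injective (f := (GPlus m K).subtype.comp (fixedPts (psiP m hσ)).subtype)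
      ((GPlus m K).subtype_injective.comp (fixedPts (psiP m hσ)).subtype_injective)]
    refine Subgroup.card_dvd_of_le ?_
    rintro _ ⟨g, hg, rfl⟩
    exact (show ((g : ↥(GPlus m K)) : GL (Fin (dim m)) K) ∈ HPlus m K from hg).1
  · intro w hw hbot
    have hwsym : revConj w.1.1 = w.1.1 := WPlus_le_sym w.1.2
    suffices h : ∃ v : ↥(GPlus m K), (v : GL (Fin (dim m)) K) ∈ outPart w.1.1⁻¹ ⊓ OGrp m K ∧
        psiP m hσ v = v ∧ v ≠ 1 by
      obtain ⟨v, hv, hfix, hne⟩ := h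
      have : (⟨v, hfix⟩ : ↥(fixedPts (psiP m hσ))) ∈ (⊥ : Subgroup ↥(fixedPts (psiP m hσ))) :=
        hbot ▸ ((mem_Uw_iff hσ).2 hv)
      exact hne (congrArg Subtype.val (Subgroup.mem_bot.1 this))
    rcases exists_descent w.2 (fun e => hw (Subtype.ext e)) with ⟨i, j, hij, hj, hd⟩ | ⟨i, hi, hd⟩
    · have hlt : i < j := Fin.lt_def.2 (by omega)
      have hjr : j < j.rev := by rw [Fin.lt_def, Fin.val_rev]; simp only [dim] at *; omega
      have hO := rootPair_mem_OGrp (F := K) hlt hjr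
      exact ⟨⟨rootPair hlt.ne, UPlus_le ⟨rootPair_unitri hlt, hO⟩⟩, ⟨rootPair_outPart hlt hwsym hd, hO⟩,
        Subtype.ext (psi_rootPair hij hj hlt.ne),
        fun e => rootPair_ne_one hlt.ne (hjr.trans (Fin.rev_lt_rev.2 hlt)).ne (congrArg Subtype.val e)⟩
    · have hA : ((midA m : Fin (dim m)) : ℕ) = m := rfl
      have hB := midA_rev_val (m := m)
      have hlt : i < midA m := Fin.lt_def.2 (by omega)
      have hjr : midA m < (midA m).rev := Fin.lt_def.2 (by omega)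
      have hO := rootPair_mem_OGrp (F := K) hlt hjr
      have hU : rootPair (F := K) hlt.ne ∈ UPlus m K := ⟨rootPair_unitri hlt, hO⟩
      obtain ⟨hc, hne⟩ := short_fixed (σ := σ) hi hlt.ne
      have hout : rootPair (F := K) hlt.ne ∈ outPart w.1.1⁻¹ := by
        refine rootPair_outPart hlt hwsym ?_
        have h2 := (image_pair w.2 (midA m)).2 (Or.inl hA)
        rw [Fin.lt_def]
        omega
      have hout' := psi_outPart hσ hwsym ⟨hout, hO⟩
      rw [show mid m * w.1.1 * mid m = w.1.1 from w.2] at hout'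
      have hmem : rootPair (F := K) hlt.ne * psi m σ (rootPair hlt.ne) ∈
          outPart (F := K) w.1.1⁻¹ ⊓ OGrp m K :=
        (outPart (F := K) w.1.1⁻¹ ⊓ OGrp m K).mul_mem ⟨hout, hO⟩ hout'
      exact ⟨⟨_, (short_mem m hσ hi hlt).1⟩, hmem, Subtype.ext (short_mem m hσ hi hlt).2,
        fun e => hne (congrArg Subtype.val e)⟩

end Minus

end Cfsg.Agent.H83.LieBN
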